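import Mathlib

/-!
# Regular sequences and dévissage at a general point of a component
-/

set_option autoImplicit false
set_option linter.style.haveILetI false
universe u v
open RingTheory.Sequence Function Submodule
open scoped Pointwise

namespace Groth.Agent.H28Index

section Extension

variable (R : Type*) {A : Type u} [CommRing R] [CommRing A] [Algebra R A]

/-- The length over `R` of the quotient by a list. -/
noncomputable def listLength (rs : List A) (M : Type v) [AddCommGroup M] [Module A M] [Module R M]
    [IsScalarTower R A M] : ℕ∞ :=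
  Module.length R (M ⧸ (Ideal.ofList rs • ⊤ : Submodule A M))

/-- Extensions of modules on which a sequence is weakly regular. -/
theorem isWeaklyRegular_of_exact {N₁ N₂ N₃ : Type v} [AddCommGroup N₁] [Module A N₁] [Module R N₁]
    [IsScalarTower R A N₁] [AddCommGroup N₂] [Module A N₂] [Module R N₂] [IsScalarTower R A N₂]
    [AddCommGroup N₃] [Module A N₃] [Module R N₃] [IsScalarTower R A N₃]
    (f : N₁ →ₗ[A] N₂) (g : N₂ →ₗ[A] N₃) (hf : Injective f) (hg : Surjective g) (h : Exact f g)
    (rs : List A) (h₁ : IsWeaklyRegular N₁ rs) (h₃ : IsWeaklyRegular N₃ rs) :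
    IsWeaklyRegular N₂ rs ∧ listLength R rs N₂ = listLength R rs N₁ + listLength R rs N₃ := by
  induction rs generalizing N₁ N₂ N₃ with
  | nil =>
    have e : ∀ (M : Type v) [AddCommGroup M] [Module A M] [Module R M] [IsScalarTower R A M],
        listLength R ([] : List A) M = Module.length R M := fun M => by
      intros
      have : (Ideal.ofList ([] : List A) • ⊤ : Submodule A M) = ⊥ := by simp
      exact ((Submodule.quotEquivOfEqBot _ this).restrictScalars R).length_eq
    refine ⟨IsWeaklyRegular.nil A N₂, ?_⟩
    rw [e, e, e]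
    exact Module.length_eq_add_of_exact (f.restrictScalars R) (g.restrictScalars R) hf hg h
  | cons r rs ih =>
    rw [isWeaklyRegular_cons_iff] at h₁ h₃
    have hr : IsSMulRegular N₂ r :=
      isSMulRegular_of_range_eq_ker hf h.linearMap_ker_eq.symm h₁.1 h₃.1
    have hinj : Injective (QuotSMulTop.map r f) := by
      have h0 : Exact (0 : PUnit.{v+1} →ₗ[A] N₁) f := (LinearMap.exact_zero_iff_injective _ f).2 hf
      have := QuotSMulTop.map_first_exact_on_four_term_exact_of_isSMulRegular_last h0 h h₃.1
      rw [map_zero] at this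
      exact (LinearMap.exact_zero_iff_injective _ _).1 this
    obtain ⟨h2, hlen⟩ := ih (QuotSMulTop.map r f) (QuotSMulTop.map r g) hinj
      (QuotSMulTop.map_surjective r hg) (QuotSMulTop.map_exact r h hg) h₁.2 h₃.2
    refine ⟨(isWeaklyRegular_cons_iff _ r rs).2 ⟨hr, h2⟩, ?_⟩
    have e : ∀ (M : Type v) [AddCommGroup M] [Module A M] [Module R M] [IsScalarTower R A M],
        listLength R (r :: rs) M = listLength R rs (QuotSMulTop r M) := fun M => by
      intros
      exact ((Submodule.quotOfListConsSMulTopEquivQuotSMulTopInner M r rs).restrictScalars R).length_eq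
    rw [e, e, e, hlen]

end Extension

section Component

variable (R : Type u) {A : Type u} [CommRing R] [CommRing A] [Algebra R A] [IsNoetherianRing A]
  (P : Ideal A) [P.IsPrime]

/-- The test at a closed point for a module. -/
def Good (N : Type u) [AddCommGroup N] [Module A N] [Module R N] [IsScalarTower R A N] : Prop :=
  ∃ g : A, g ∉ P ∧ ∀ (m : Ideal A) [m.IsPrime], g ∉ m → ∀ rs : List A,
    IsWeaklyRegular (LocalizedModule m.primeCompl (A ⧸ P)) rs →
    listLength R rs (LocalizedModule m.primeCompl (A ⧸ P)) = 1 →
    IsWeaklyRegular (LocalizedModule m.primeCompl N) rs ∧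
      listLength R rs (LocalizedModule m.primeCompl N) =
        Module.length (Localization.AtPrime P) (LocalizedModule P.primeCompl N)

theorem isWeaklyRegular_of_subsingleton {M : Type*} [AddCommGroup M] [Module A M] [Subsingleton M]
    (rs : List A) : IsWeaklyRegular M rs :=
  ⟨fun _ _ => fun _ _ _ => Subsingleton.elim _ _⟩

omit [IsNoetherianRing A] in
theorem listLength_eq_zero {M : Type*} [AddCommGroup M] [Module A M] [Module R M] [IsScalarTower R A M]
    [Subsingleton M] (rs : List A) : listLength R rs M = 0 :=
  Module.length_eq_zero_iff.2 inferInstance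

theorem listLength_congr {M M' : Type u} [AddCommGroup M] [Module A M] [Module R M] [IsScalarTower R A M]
    [AddCommGroup M'] [Module A M'] [Module R M'] [IsScalarTower R A M'] (e : M ≃ₗ[A] M') (rs : List A) :
    listLength R rs M = listLength R rs M' :=
  ((Submodule.Quotient.equiv _ _ e (by
    rw [Submodule.map_smul'', Submodule.map_top, LinearEquiv.range])).restrictScalars R).length_eq

theorem length_localizedModule_quotient_self :
    Module.length (Localization.AtPrime P) (LocalizedModule P.primeCompl (A ⧸ P)) = 1 := by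
  let M := LocalizedModule P.primeCompl (A ⧸ P)
  let o : M := LocalizedModule.mk (Ideal.Quotient.mk P 1) 1
  have hspan : ∀ x : M, ∃ (a : A) (s : P.primeCompl), x = IsLocalization.mk' (Localization.AtPrime P) a s • o := by
    intro x
    induction x using LocalizedModule.induction_on with
    | h y s =>
      obtain ⟨a, rfl⟩ := Ideal.Quotient.mk_surjective y
      refine ⟨a, s, ?_⟩
      rw [← Localization.mk_eq_mk', LocalizedModule.mk_smul_mk, mul_one]
      congr 1
      show Ideal.Quotient.mk P a = Ideal.Quotient.mk P (a * 1)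
      rw [mul_one]
  have ho : o ≠ 0 := fun h => by
    obtain ⟨u, hu⟩ := LocalizedModule.mk_eq.1 (h.trans (LocalizedModule.zero_mk 1).symm)
    simp only [one_smul, smul_zero] at hu
    have : Ideal.Quotient.mk P ((u : A) * 1) = 0 := hu
    rw [mul_one, Ideal.Quotient.eq_zero_iff_mem] at this
    exact u.2 this
  haveI : Nontrivial M := nontrivial_of_ne _ _ ho
  have : IsSimpleModule (Localization.AtPrime P) M := isSimpleModule_iff_toSpanSingleton_surjective.2
    ⟨inferInstance, fun x hx y => by
      obtain ⟨a, s, rfl⟩ := hspan x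
      obtain ⟨b, t, rfl⟩ := hspan y
      have ha : a ∉ P := fun h => hx (by
        rw [← Localization.mk_eq_mk', LocalizedModule.mk_smul_mk,
          show (a • Ideal.Quotient.mk P (1 : A)) = 0 from Ideal.Quotient.eq_zero_iff_mem.2 (P.mul_mem_right 1 h)]
        exact LocalizedModule.zero_mk _)
      obtain ⟨u, hu⟩ := (IsLocalization.map_units (Localization.AtPrime P) (⟨a, ha⟩ : P.primeCompl))
      refine ⟨IsLocalization.mk' _ b t * (algebraMap A _ s * ↑u⁻¹), ?_⟩
      rw [LinearMap.toSpanSingleton_apply, smul_smul]
      congr 1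
      rw [mul_assoc, mul_right_comm (algebraMap A (Localization.AtPrime P) (s : A)), IsLocalization.mk'_spec',
        ← hu, Units.mul_inv, mul_one]⟩
  exact Module.length_eq_one_iff.2 this

/-- Every finite module passes the test. -/
theorem good (hP : P ∈ minimalPrimes A) (N : Type u) [AddCommGroup N] [Module A N] [Module R N]
    [IsScalarTower R A N] [Module.Finite A N] : Good R P N := by
  suffices H : ∀ (_ : Module R N), ∀ (_ : IsScalarTower R A N), Good R P N from H _ inferInstance
  refine IsNoetherianRing.induction_on_isQuotientEquivQuotientPrime A (M := N) inferInstance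
    (motive := fun M _ _ _ => ∀ (_ : Module R M), ∀ (_ : IsScalarTower R A M), Good R P M) ?_ ?_ ?_
  · intro M _ _ _ _ _ _
    refine ⟨1, fun h => ‹P.IsPrime›.ne_top ((Ideal.eq_top_iff_one _).2 h), fun m _ _ rs _ _ =>
      ⟨isWeaklyRegular_of_subsingleton rs, ?_⟩⟩
    rw [listLength_eq_zero, Module.length_eq_zero_iff.2 inferInstance]
  · intro M _ _ _ p e _ _
    by_cases hp : p.1 = P
    · rw [hp] at e
      refine ⟨1, fun h => ‹P.IsPrime›.ne_top ((Ideal.eq_top_iff_one _).2 h), fun m _ _ rs hreg hlen => ?_⟩
      let eM := IsLocalizedModule.mapEquiv m.primeCompl (LocalizedModule.mkLinearMap m.primeCompl M)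
        (LocalizedModule.mkLinearMap m.primeCompl (A ⧸ P)) (Localization.AtPrime m) e
      let eP := IsLocalizedModule.mapEquiv P.primeCompl (LocalizedModule.mkLinearMap P.primeCompl M)
        (LocalizedModule.mkLinearMap P.primeCompl (A ⧸ P)) (Localization.AtPrime P) e
      refine ⟨((eM.restrictScalars A).isWeaklyRegular_congr rs).2 hreg, ?_⟩
      rw [listLength_congr R (eM.restrictScalars A) rs, hlen, eP.length_eq,
        length_localizedModule_quotient_self]
    · obtain ⟨g, hgp, hgP⟩ : ∃ g ∈ p.1, g ∉ P := by
        by_contra h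
        push Not at h
        exact hp (le_antisymm h (hP.2 ⟨p.2, bot_le⟩ h))
      refine ⟨g, hgP, fun m _ hgm rs _ _ => ?_⟩
      have hz : ∀ (q : Ideal A) [q.IsPrime], g ∉ q → Subsingleton (LocalizedModule q.primeCompl M) :=
        fun q _ hq => LocalizedModule.subsingleton_iff.2 fun x => ⟨g, hq, e.injective (by
          rw [map_smul, map_zero]
          obtain ⟨y, hy⟩ := Ideal.Quotient.mk_surjective (e x)
          rw [← hy]
          exact Ideal.Quotient.eq_zero_iff_mem.2 (p.1.mul_mem_right y hgp))⟩
      haveI := hz m hgm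
      haveI := hz P hgP
      exact ⟨isWeaklyRegular_of_subsingleton rs, by
        rw [listLength_eq_zero, Module.length_eq_zero_iff.2 inferInstance]⟩
  · intro N₁ _ _ _ N₂ _ _ _ N₃ _ _ _ f g hf hg hfg H₁ H₃ _ _
    letI : Module R N₁ := Module.compHom N₁ (algebraMap R A)
    haveI : IsScalarTower R A N₁ := IsScalarTower.of_algebraMap_smul fun _ _ => rfl
    letI : Module R N₃ := Module.compHom N₃ (algebraMap R A)
    haveI : IsScalarTower R A N₃ := IsScalarTower.of_algebraMap_smul fun _ _ => rfl
    obtain ⟨g₁, hg₁, hN₁⟩ := H₁ inferInstance inferInstance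
    obtain ⟨g₃, hg₃, hN₃⟩ := H₃ inferInstance inferInstance
    refine ⟨g₁ * g₃, fun h => (‹P.IsPrime›.mem_or_mem h).elim hg₁ hg₃, fun m _ hm rs hreg hlen => ?_⟩
    obtain ⟨hr₁, hl₁⟩ := hN₁ m (fun h => hm (m.mul_mem_right _ h)) rs hreg hlen
    obtain ⟨hr₃, hl₃⟩ := hN₃ m (fun h => hm (m.mul_mem_left _ h)) rs hreg hlen
    obtain ⟨hr₂, hl₂⟩ := isWeaklyRegular_of_exact R
      ((LocalizedModule.map m.primeCompl f).restrictScalars A)
      ((LocalizedModule.map m.primeCompl g).restrictScalars A)
      (LocalizedModule.map_injective _ f hf) (LocalizedModule.map_surjective _ g hg)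
      (LocalizedModule.map_exact _ f g hfg) rs hr₁ hr₃
    refine ⟨hr₂, ?_⟩
    rw [hl₂, hl₁, hl₃]
    exact (Module.length_eq_add_of_exact (LocalizedModule.map P.primeCompl f)
      (LocalizedModule.map P.primeCompl g) (LocalizedModule.map_injective _ f hf)
      (LocalizedModule.map_surjective _ g hg) (LocalizedModule.map_exact _ f g hfg)).symm

end Component

end Groth.Agent.H28Index
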