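import Mathlib
import Groth.Agent.H28Index.Devissage
import Groth.Agent.H4Depth.Regular
import Groth.Agent.S9442
import Groth.Agent.H24Cot.Regular
import Groth.Agent.H9Hens.Split

/-!
# Finite flat multisections with the multiplicity of a fibre component as rank
-/

set_option autoImplicit false
set_option linter.style.haveILetI false
universe u
open IsLocalRing RingTheory.Sequence Submodule
open scoped Pointwise

namespace Groth.Agent.H28Index

variable (R : Type u) [CommRing R] [IsDomain R] [IsDiscreteValuationRing R]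

/-- The ring maps from `R` onto residue fields of closed points of the special fibre are surjective. -/
theorem surjective_to_residueField [IsAlgClosed (ResidueField R)] {D : Type u} [CommRing D] [Algebra R D]
    [Algebra.FiniteType R D] (n : Ideal D) [n.IsMaximal] (hn : ∀ r ∈ maximalIdeal R, algebraMap R D r ∈ n) :
    Function.Surjective ((Ideal.Quotient.mk n).comp (algebraMap R D)) := by
  letI := Ideal.Quotient.field n
  let φ : ResidueField R →+* D ⧸ n := Ideal.Quotient.lift (maximalIdeal R) ((Ideal.Quotient.mk n).comp (algebraMap R D))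
    fun r hr => Ideal.Quotient.eq_zero_iff_mem.2 (hn r hr)
  letI : Algebra (ResidueField R) (D ⧸ n) := φ.toAlgebra
  haveI : IsScalarTower R (ResidueField R) (D ⧸ n) := IsScalarTower.of_algebraMap_eq fun r => rfl
  haveI : Algebra.FiniteType (ResidueField R) (D ⧸ n) := Algebra.FiniteType.of_restrictScalars_finiteType R _ _
  haveI : Module.Finite (ResidueField R) (D ⧸ n) := finite_of_finite_type_of_isJacobsonRing _ _
  intro y
  obtain ⟨x, hx⟩ := (IsAlgClosed.algebraMap_bijective_of_isIntegral (k := ResidueField R) (K := D ⧸ n)).2 y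
  obtain ⟨r, rfl⟩ := residue_surjective x
  exact ⟨r, hx⟩

/-- A closed point of a component with a regular sequence cutting it out. -/
theorem exists_regular_point [IsAlgClosed (ResidueField R)] {A : Type u} [CommRing A] [Algebra R A]
    [Algebra.FiniteType R A] (hA : ∀ r ∈ maximalIdeal R, algebraMap R A r = 0) (P : Ideal A) [P.IsPrime]
    (g : A) (hg : g ∉ P) :
    ∃ (m : Ideal A) (_ : m.IsMaximal) (rs : List A), g ∉ m ∧ (∀ a ∈ rs, a ∈ m) ∧
      IsWeaklyRegular (LocalizedModule m.primeCompl (A ⧸ P)) rs ∧
      listLength R rs (LocalizedModule m.primeCompl (A ⧸ P)) = 1 := by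
  haveI : IsNoetherianRing A := Algebra.FiniteType.isNoetherianRing R A
  let D := A ⧸ P
  haveI : Algebra.FiniteType R D := Algebra.FiniteType.of_surjective (Ideal.Quotient.mkₐ R P) Ideal.Quotient.mk_surjective
  have hD : ∀ r ∈ maximalIdeal R, algebraMap R D r = 0 := fun r hr => by
    rw [IsScalarTower.algebraMap_apply R A D, hA r hr, map_zero]
  let φ : ResidueField R →+* D := Ideal.Quotient.lift (maximalIdeal R) (algebraMap R D) hD
  letI : Algebra (ResidueField R) D := φ.toAlgebra
  haveI : IsScalarTower R (ResidueField R) D := IsScalarTower.of_algebraMap_eq fun r => rfl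
  haveI : Algebra.FiniteType (ResidueField R) D := Algebra.FiniteType.of_restrictScalars_finiteType R _ _
  haveI : Algebra.FinitePresentation (ResidueField R) D :=
    Algebra.FinitePresentation.of_finiteType.mp inferInstance
  haveI : IsJacobsonRing D := isJacobsonRing_of_finiteType (A := ResidueField R)
  -- smooth at the generic point
  have hbot : Algebra.IsSmoothAt (ResidueField R) (⊥ : Ideal D) := by
    haveI : IsLocalization (⊥ : Ideal D).primeCompl (FractionRing D) := by
      have : (⊥ : Ideal D).primeCompl = nonZeroDivisors D := by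
        ext x; simp [Ideal.primeCompl]
      rw [this]; infer_instance
    haveI : Algebra.EssFiniteType (ResidueField R) (FractionRing D) := inferInstance
    haveI : Algebra.FormallySmooth (ResidueField R) (FractionRing D) := Algebra.FormallySmooth.of_perfectField
    exact Algebra.FormallySmooth.of_equiv ((IsLocalization.algEquiv (⊥ : Ideal D).primeCompl (FractionRing D)
      (Localization.AtPrime (⊥ : Ideal D))).restrictScalars (ResidueField R))
  obtain ⟨_, ⟨h, rfl⟩, hbh, hhs⟩ := PrimeSpectrum.isTopologicalBasis_basic_opens.exists_subset_of_mem_open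
    (show (⟨⊥, Ideal.isPrime_bot⟩ : PrimeSpectrum D) ∈ Algebra.smoothLocus (ResidueField R) D from hbot)
    Algebra.isOpen_smoothLocus
  have hh0 : h ≠ 0 := fun h0 => hbh (by rw [h0]; exact Submodule.zero_mem _)
  have hg0 : Ideal.Quotient.mk P g ≠ 0 := fun h0 => hg (Ideal.Quotient.eq_zero_iff_mem.1 h0)
  obtain ⟨n, hn, hgn⟩ : ∃ n : Ideal D, n.IsMaximal ∧ h * Ideal.Quotient.mk P g ∉ n := by
    by_contra hc
    push Not at hc
    have h1 : h * Ideal.Quotient.mk P g ∈ (⊥ : Ideal D).jacobson := Ideal.mem_sInf.2 fun I hI => hc I hI.2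
    rw [IsJacobsonRing.out' _ (Ideal.isPrime_bot (α := D)).isRadical] at h1
    exact mul_ne_zero hh0 hg0 h1
  haveI := hn
  haveI : Algebra.IsGeometricallyReduced (ResidueField R) n.ResidueField :=
    Groth.Agent.H24Cot.isGeometricallyReduced_of_isAlgClosed _ _
  haveI : IsRegularLocalRing (Localization.AtPrime n) :=
    (Groth.Agent.S9442.result (ResidueField R) D n).1
      (hhs (show (⟨n, inferInstance⟩ : PrimeSpectrum D) ∈ PrimeSpectrum.basicOpen h from
        fun hmem => hgn (n.mul_mem_right _ hmem)))
  let Dn := Localization.AtPrime n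
  obtain ⟨d, x, hd, hx⟩ := Groth.Agent.H4Depth.exists_regular_system_of_parameters Dn
  choose as ha using fun i => IsLocalization.surj n.primeCompl (x i)
  let a : Fin d → D := fun i => (as i).1
  let s : Fin d → n.primeCompl := fun i => (as i).2
  choose a₀ ha₀ using fun i => Ideal.Quotient.mk_surjective (a i)
  let m : Ideal A := n.comap (Ideal.Quotient.mk P)
  haveI : m.IsMaximal := Ideal.comap_isMaximal_of_surjective _ Ideal.Quotient.mk_surjective
  let y : Fin d → Dn := fun i => algebraMap A Dn (a₀ i)
  have hy : ∀ i, y i = x i * algebraMap D Dn (s i) := fun i => by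
    rw [ha]
    show algebraMap A Dn (a₀ i) = algebraMap D Dn (as i).1
    rw [IsScalarTower.algebraMap_apply A D Dn]
    exact congrArg _ (ha₀ i)
  have hspan : Ideal.span (Set.range y) = maximalIdeal Dn := by
    rw [← hx]
    apply le_antisymm <;> rw [Ideal.span_le] <;> rintro _ ⟨i, rfl⟩
    · rw [hy]; exact Ideal.mul_mem_right _ _ (Ideal.subset_span ⟨i, rfl⟩)
    · obtain ⟨w, hw⟩ := IsLocalization.map_units Dn (s i)
      have : x i = y i * ↑w⁻¹ := by rw [hy, ← hw, mul_assoc, Units.mul_inv, mul_one]
      rw [this]; exact Ideal.mul_mem_right _ _ (Ideal.subset_span ⟨i, rfl⟩)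
  let rs : List A := List.ofFn a₀
  have hmap : rs.map (algebraMap A Dn) = List.ofFn y := List.map_ofFn
  have hreg : IsWeaklyRegular Dn rs := by
    rw [← isWeaklyRegular_map_algebraMap_iff Dn Dn rs, hmap]
    exact (Groth.Agent.H4Depth.isRegular_ofFn_of_span_eq d hd y hspan).1
  -- the localised quotient
  haveI : IsLocalization (Algebra.algebraMapSubmonoid D m.primeCompl) Dn := by
    have : Algebra.algebraMapSubmonoid D m.primeCompl = n.primeCompl := by
      ext z
      refine ⟨?_, fun hz => ?_⟩
      · rintro ⟨w, hw, rfl⟩; exact hw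
      · obtain ⟨w, rfl⟩ := Ideal.Quotient.mk_surjective z
        exact ⟨w, hz, rfl⟩
    rw [this]; infer_instance
  let e : LocalizedModule m.primeCompl (A ⧸ P) ≃ₗ[A] Dn :=
    IsLocalizedModule.iso m.primeCompl (IsScalarTower.toAlgHom A D Dn).toLinearMap
  refine ⟨m, inferInstance, rs, fun h0 => hgn (n.mul_mem_left _ h0), fun b hb => ?_,
    (e.isWeaklyRegular_congr rs).2 hreg, ?_⟩
  · obtain ⟨i, rfl⟩ := List.mem_ofFn.1 hb
    show Ideal.Quotient.mk P (a₀ i) ∈ n
    by_contra hc
    have h1 : IsUnit (y i) := IsLocalization.map_units Dn (⟨_, hc⟩ : n.primeCompl)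
    exact (hspan ▸ Ideal.subset_span ⟨i, rfl⟩ : y i ∈ maximalIdeal Dn) h1
  · rw [listLength_congr R e rs]
    have htop : (Ideal.ofList rs • ⊤ : Submodule A Dn) = (maximalIdeal Dn).restrictScalars A := by
      rw [Ideal.smul_top_eq_map, Ideal.map_ofList, hmap]
      congr 1
      rw [← hspan]
      refine congrArg Ideal.span (Set.ext fun z => ?_)
      exact List.mem_ofFn
    show Module.length R (Dn ⧸ (Ideal.ofList rs • ⊤ : Submodule A Dn)) = 1
    rw [((Submodule.quotEquivOfEq _ _ htop).restrictScalars R).length_eq,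
      ((Submodule.Quotient.restrictScalarsEquiv A (maximalIdeal Dn)).restrictScalars R).length_eq]
    have hsurj : Function.Surjective (algebraMap R (Dn ⧸ maximalIdeal Dn)) := by
      intro z
      obtain ⟨z', rfl⟩ := Ideal.Quotient.mk_surjective z
      obtain ⟨⟨b, t⟩, hbt⟩ := IsLocalization.surj n.primeCompl z'
      obtain ⟨r, hr⟩ := surjective_to_residueField R n (fun r hr => by rw [hD r hr]; exact n.zero_mem)
        (Ideal.Quotient.mk n b)
      obtain ⟨r', hr'⟩ := surjective_to_residueField R n (fun r hr => by rw [hD r hr]; exact n.zero_mem)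
        (Ideal.Quotient.mk n (t : D))
      have hr'u : IsUnit r' := by
        by_contra hu
        have : algebraMap R D r' = 0 := hD r' hu
        simp only [RingHom.comp_apply, this, map_zero] at hr'
        exact t.2 (Ideal.Quotient.eq_zero_iff_mem.1 hr'.symm)
      have hcl : ∀ (u : R) (c : D), Ideal.Quotient.mk n (algebraMap R D u) = Ideal.Quotient.mk n c →
          algebraMap R (Dn ⧸ maximalIdeal Dn) u = Ideal.Quotient.mk _ (algebraMap D Dn c) := by
        intro u c huc
        rw [IsScalarTower.algebraMap_apply R Dn (Dn ⧸ maximalIdeal Dn), IsScalarTower.algebraMap_apply R D Dn]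
        refine Ideal.Quotient.eq.2 ?_
        rw [← map_sub]
        exact IsLocalization.AtPrime.map_eq_maximalIdeal n Dn ▸ Ideal.mem_map_of_mem _ (Ideal.Quotient.eq.1 huc)
      obtain ⟨w, hw⟩ := hr'u
      refine ⟨r * ↑w⁻¹, ?_⟩
      have h1 := congrArg (Ideal.Quotient.mk (maximalIdeal Dn)) hbt
      rw [map_mul, ← hcl r' t hr', ← hcl r b hr, ← hw] at h1
      rw [map_mul, ← h1, mul_assoc, ← map_mul, Units.mul_inv, map_one, mul_one]
    letI := Ideal.Quotient.field (maximalIdeal Dn)
    rw [Module.length_eq_of_surjective hsurj]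
    exact Module.length_eq_one_iff.2 inferInstance

/-- The multiplicity of a fibre component is the rank of a finite flat multisection. -/
theorem exists_finite_algebra [HenselianLocalRing R] [IsAlgClosed (ResidueField R)] {A₀ A : Type u}
    [CommRing A₀] [Algebra R A₀] [Algebra.FiniteType R A₀] [Module.Flat R A₀] [CommRing A] [Algebra R A]
    (φ : A₀ →ₐ[R] A) (hφ : Function.Surjective φ) (π : R) (hπ : maximalIdeal R = Ideal.span {π})
    (hker : RingHom.ker φ = Ideal.span {algebraMap R A₀ π})
    (P : Ideal A) [P.IsPrime] (hP : P ∈ minimalPrimes A) :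
    ∃ ℓ : ℕ, Module.length (Localization.AtPrime P) (Localization.AtPrime P) = ℓ ∧
      ∃ (B : Type u) (_ : CommRing B) (_ : Algebra R B), Module.Free R B ∧ Module.Finite R B ∧
        Module.finrank R B = ℓ ∧ Nonempty (A₀ →ₐ[R] B) := by
  haveI : IsNoetherianRing A₀ := Algebra.FiniteType.isNoetherianRing R A₀
  haveI : Algebra.FiniteType R A := Algebra.FiniteType.of_surjective φ hφ
  haveI : IsNoetherianRing A := Algebra.FiniteType.isNoetherianRing R A
  have hπ0 : φ (algebraMap R A₀ π) = 0 :=
    (RingHom.mem_ker (f := (φ : A₀ →+* A))).1 (hker ▸ Ideal.subset_span rfl)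
  have hA : ∀ r ∈ maximalIdeal R, algebraMap R A r = 0 := by
    intro r hr
    rw [hπ, Ideal.mem_span_singleton'] at hr
    obtain ⟨c, rfl⟩ := hr
    rw [map_mul, ← φ.commutes π, hπ0, mul_zero]
  obtain ⟨g, hg, hgood⟩ := good R P hP A
  obtain ⟨m, hm, rs, hgm, hrsm, hreg, hlen⟩ := exists_regular_point R hA P g hg
  haveI := hm
  obtain ⟨hregA, hlenA⟩ := hgood m hgm rs hreg hlen
  letI : Algebra A₀ A := φ.toRingHom.toAlgebra
  haveI : IsScalarTower R A₀ A := IsScalarTower.of_algebraMap_eq fun r => (φ.commutes r).symm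
  let Am := Localization.AtPrime m
  let m₀ : Ideal A₀ := m.comap φ
  haveI : m₀.IsMaximal := Ideal.comap_isMaximal_of_surjective _ hφ
  let A₀m := Localization.AtPrime m₀
  let ψ : A₀m →+* Am := Localization.localRingHom m₀ m φ.toRingHom rfl
  letI : Algebra A₀m Am := ψ.toAlgebra
  haveI : IsScalarTower A₀ A₀m Am := IsScalarTower.of_algebraMap_eq fun a =>
    ((Localization.localRingHom_to_map m₀ m φ.toRingHom rfl a).trans
      (IsScalarTower.algebraMap_apply A₀ A Am a).symm).symm
  haveI : IsScalarTower R A₀m Am := IsScalarTower.of_algebraMap_eq fun r => by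
    rw [IsScalarTower.algebraMap_apply R A₀ A₀m, ← IsScalarTower.algebraMap_apply A₀ A₀m Am,
      ← IsScalarTower.algebraMap_apply R A₀ Am]
  choose lift hlift using hφ
  let rs₀ : List A₀ := rs.map lift
  let rsm : List A₀m := rs₀.map (algebraMap A₀ A₀m)
  -- the sequence on the special fibre
  let eA : LocalizedModule m.primeCompl A ≃ₗ[A] Am :=
    IsLocalizedModule.iso m.primeCompl (Algebra.linearMap A Am)
  have hlistA : rsm.map (algebraMap A₀m Am) = rs.map (algebraMap A Am) := by
    simp only [rsm, rs₀, List.map_map]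
    refine List.map_congr_left fun a _ => ?_
    show algebraMap A₀m Am (algebraMap A₀ A₀m (lift a)) = algebraMap A Am a
    rw [← IsScalarTower.algebraMap_apply A₀ A₀m Am, IsScalarTower.algebraMap_apply A₀ A Am]
    exact congrArg _ (hlift a)
  have hregAm : IsWeaklyRegular Am rsm := by
    rw [← isWeaklyRegular_map_algebraMap_iff Am Am rsm, hlistA, isWeaklyRegular_map_algebraMap_iff Am Am rs]
    exact (eA.isWeaklyRegular_congr rs).1 hregA
  let J : Ideal Am := Ideal.ofList (rsm.map (algebraMap A₀m Am))
  let ℓ' := Module.length R (Am ⧸ J)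
  have hℓ' : ℓ' = Module.length (Localization.AtPrime P) (Localization.AtPrime P) := by
    have h1 : Module.length (Localization.AtPrime P) (LocalizedModule P.primeCompl A) =
        Module.length (Localization.AtPrime P) (Localization.AtPrime P) :=
      ((IsLocalizedModule.iso P.primeCompl (Algebra.linearMap A (Localization.AtPrime P))).extendScalarsOfIsLocalization
        P.primeCompl (Localization.AtPrime P)).length_eq
    rw [← h1, ← hlenA, listLength_congr R eA rs]
    have htop : (Ideal.ofList rs • ⊤ : Submodule A Am) = J.restrictScalars A := by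
      rw [Ideal.smul_top_eq_map, Ideal.map_ofList]
      simp only [J, hlistA]
    exact (((Submodule.quotEquivOfEq _ _ htop).restrictScalars R).trans
      ((Submodule.Quotient.restrictScalarsEquiv A J).restrictScalars R)).length_eq.symm
  have hfin : Module.length (Localization.AtPrime P) (Localization.AtPrime P) ≠ ⊤ := by
    haveI : Ring.KrullDimLE 0 (Localization.AtPrime P) := Ring.KrullDimLE.mk₀ fun I hI => by
      rw [show I = maximalIdeal (Localization.AtPrime P) from ?_]
      · exact maximalIdeal.isMaximal _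
      refine le_antisymm (IsLocalRing.le_maximalIdeal hI.ne_top) ?_
      rw [← IsLocalization.map_under P.primeCompl (Localization.AtPrime P) I,
        ← IsLocalization.AtPrime.map_eq_maximalIdeal P (Localization.AtPrime P)]
      haveI := hI
      have hle : I.comap (algebraMap A (Localization.AtPrime P)) ≤ P :=
        (Ideal.comap_mono (IsLocalRing.le_maximalIdeal hI.ne_top)).trans
          (IsLocalization.AtPrime.under_maximalIdeal (Localization.AtPrime P) P).le
      exact Ideal.map_mono (hP.2 ⟨Ideal.comap_isPrime _ I, bot_le⟩ hle)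
    haveI : IsNoetherianRing (Localization.AtPrime P) := IsLocalization.isNoetherianRing P.primeCompl _ inferInstance
    haveI : IsArtinianRing (Localization.AtPrime P) := IsNoetherianRing.isArtinianRing_of_krullDimLE_zero
    exact Module.length_ne_top_iff.2 (isFiniteLength_iff_isNoetherian_isArtinian.2
      ⟨inferInstance, (inferInstance : IsArtinianRing (Localization.AtPrime P))⟩)
  -- the kernel of the localised reduction
  let π' : A₀m := algebraMap R A₀m π
  have hψsurj : Function.Surjective (algebraMap A₀m Am) := by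
    intro z
    obtain ⟨⟨b, t⟩, hbt⟩ := IsLocalization.surj m.primeCompl z
    have ht : lift (t : A) ∈ m₀.primeCompl := fun h => t.2 (by
      have : φ (lift (t : A)) ∈ m := h
      rwa [hlift] at this)
    refine ⟨IsLocalization.mk' A₀m (lift b) ⟨_, ht⟩, ?_⟩
    show (Localization.localRingHom m₀ m φ.toRingHom rfl) _ = z
    erw [Localization.localRingHom_mk']
    rw [IsLocalization.mk'_eq_iff_eq_mul]
    show algebraMap A Am (φ (lift b)) = z * algebraMap A Am (φ (lift t))
    rw [hlift, hlift, hbt]
  have hψker : RingHom.ker (algebraMap A₀m Am) = Ideal.span {π'} := by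
    refine le_antisymm (fun z hz => ?_) ?_
    · obtain ⟨⟨b, t⟩, hbt⟩ := IsLocalization.surj m₀.primeCompl z
      have h1 := congrArg (algebraMap A₀m Am) hbt
      rw [map_mul, (hz : algebraMap A₀m Am z = 0), zero_mul, ← IsScalarTower.algebraMap_apply A₀ A₀m Am,
        IsScalarTower.algebraMap_apply A₀ A Am] at h1
      obtain ⟨u, hu⟩ := (IsLocalization.map_eq_zero_iff m.primeCompl Am _).1 h1.symm
      have hu0 : lift (u : A) ∈ m₀.primeCompl := fun h => u.2 (by
        have : φ (lift (u : A)) ∈ m := h
        rwa [hlift] at this)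
      have h2 : lift (u : A) * b ∈ Ideal.span {algebraMap R A₀ π} := by
        rw [← hker]
        show φ (lift (u : A) * b) = 0
        rw [map_mul, hlift]
        exact hu
      have h3 : algebraMap A₀ A₀m (lift (u : A)) * (z * algebraMap A₀ A₀m t) ∈ Ideal.span {π'} := by
        rw [hbt, ← map_mul]
        have := Ideal.mem_map_of_mem (algebraMap A₀ A₀m) h2
        rwa [Ideal.map_span, Set.image_singleton, ← IsScalarTower.algebraMap_apply] at this
      rwa [Ideal.unit_mul_mem_iff_mem _ (IsLocalization.map_units A₀m ⟨_, hu0⟩),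
        Ideal.mul_unit_mem_iff_mem _ (IsLocalization.map_units A₀m t)] at h3
    · rw [Ideal.span_le, Set.singleton_subset_iff]
      show algebraMap A₀m Am (algebraMap R A₀m π) = 0
      rw [← IsScalarTower.algebraMap_apply R A₀m Am, IsScalarTower.algebraMap_apply R A Am,
        hA π (hπ ▸ Ideal.subset_span rfl), map_zero]
  have hπne : π ≠ 0 := fun h => IsDiscreteValuationRing.not_a_field R (by rw [hπ, h, Ideal.span_singleton_eq_bot])
  haveI : Module.Flat R A₀m := Module.Flat.trans R A₀ A₀m
  have hπreg : IsSMulRegular A₀m π' := by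
    intro a b hab
    have : π • a = π • b := by simpa [π', Algebra.smul_def] using hab
    exact (Module.Flat.isSMulRegular_of_isRegular (M := A₀m) (IsRegular.of_ne_zero hπne)) this
  have hrsmax : ∀ z ∈ rsm ++ [π'], z ∈ maximalIdeal A₀m := by
    intro z hz
    rw [List.mem_append, List.mem_singleton] at hz
    rw [← IsLocalization.AtPrime.map_eq_maximalIdeal m₀ A₀m]
    rcases hz with hz | rfl
    · simp only [rsm, rs₀, List.mem_map] at hz
      obtain ⟨_, ⟨a, ha, rfl⟩, rfl⟩ := hz
      refine Ideal.mem_map_of_mem _ ?_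
      show φ (lift a) ∈ m
      rw [hlift]; exact hrsm a ha
    · rw [show π' = algebraMap A₀ A₀m (algebraMap R A₀ π) from IsScalarTower.algebraMap_apply R A₀ A₀m π]
      refine Ideal.mem_map_of_mem _ ?_
      show φ (algebraMap R A₀ π) ∈ m
      rw [hπ0]; exact m.zero_mem
  have hregcons : IsWeaklyRegular A₀m (π' :: rsm) := by
    refine (isWeaklyRegular_cons_iff _ π' rsm).2 ⟨hπreg, ?_⟩
    have hk : (π' • ⊤ : Submodule A₀m A₀m) = LinearMap.ker (Algebra.linearMap A₀m Am) := by
      rw [← Submodule.ideal_span_singleton_smul, smul_eq_mul, Ideal.mul_top, ← hψker]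
      rfl
    let eQ : QuotSMulTop π' A₀m ≃ₗ[A₀m] Am :=
      (Submodule.quotEquivOfEq _ _ hk).trans ((Algebra.linearMap A₀m Am).quotKerEquivOfSurjective hψsurj)
    exact (eQ.isWeaklyRegular_congr rsm).2 hregAm
  have hregapp : IsWeaklyRegular A₀m (rsm ++ [π']) :=
    IsLocalRing.isWeaklyRegular_of_perm_of_subset_maximalIdeal hregcons
      (List.perm_append_singleton π' rsm).symm fun z hz => hrsmax z
        ((List.perm_append_singleton π' rsm).mem_iff.2 hz)
  -- the multisection
  let I : Ideal A₀m := Ideal.ofList rsm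
  let B := A₀m ⧸ I
  have hπB : IsSMulRegular B π' := by
    have h1 := ((isWeaklyRegular_append_iff A₀m rsm [π']).1 hregapp).2
    rw [isWeaklyRegular_singleton_iff] at h1
    refine ((Submodule.quotEquivOfEq _ _ ?_).isSMulRegular_congr π').1 h1
    show Ideal.ofList rsm • ⊤ = I
    rw [smul_eq_mul, Ideal.mul_top]
  let θ : A₀m →ₐ[R] Am ⧸ J :=
    (Ideal.Quotient.mkₐ R J).comp (IsScalarTower.toAlgHom R A₀m Am)
  have hθsurj : Function.Surjective θ := Ideal.Quotient.mk_surjective.comp hψsurj
  have hθI : ∀ z ∈ I, θ z = 0 := by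
    intro z hz
    refine Ideal.Quotient.eq_zero_iff_mem.2 ?_
    show algebraMap A₀m Am z ∈ J
    have := Ideal.mem_map_of_mem (algebraMap A₀m Am) hz
    rwa [Ideal.map_ofList] at this
  let θB : B →ₐ[R] Am ⧸ J := Ideal.Quotient.liftₐ I θ hθI
  have hθBker : ∀ z : B, θB z = 0 → ∃ w : B, z = π • w := by
    intro z hz
    obtain ⟨z, rfl⟩ := Ideal.Quotient.mk_surjective z
    have hz' : algebraMap A₀m Am z ∈ J := Ideal.Quotient.eq_zero_iff_mem.1 hz
    have hz'' : z ∈ I ⊔ Ideal.span {π'} := by
      rw [← hψker, ← Ideal.comap_map_of_surjective' _ hψsurj, Ideal.mem_comap, Ideal.map_ofList]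
      exact hz'
    obtain ⟨i, hi, c, hc, rfl⟩ := Submodule.mem_sup.1 hz''
    obtain ⟨w, rfl⟩ := Ideal.mem_span_singleton'.1 hc
    refine ⟨Ideal.Quotient.mk I w, ?_⟩
    rw [map_add, Ideal.Quotient.eq_zero_iff_mem.2 hi, zero_add, mul_comm]
    exact (congrArg (Ideal.Quotient.mk I) (Algebra.smul_def π w).symm).trans (Submodule.Quotient.mk_smul _ π w)
  -- finiteness
  haveI hBfin : Module.Finite R B := by
    let S := A₀ ⧸ Ideal.ofList rs₀
    haveI : Algebra.FiniteType R S :=
      Algebra.FiniteType.of_surjective (Ideal.Quotient.mkₐ R _) Ideal.Quotient.mk_surjective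
    have hle : Ideal.ofList rs₀ ≤ m₀ := Ideal.span_le.2 fun a ha => by
      simp only [rs₀, List.mem_map, Set.mem_setOf_eq] at ha
      obtain ⟨b, hb, rfl⟩ := ha
      show φ (lift b) ∈ m
      rw [hlift]; exact hrsm b hb
    let q : Ideal S := m₀.map (Ideal.Quotient.mk _)
    haveI : q.IsPrime := Ideal.map_isPrime_of_surjective Ideal.Quotient.mk_surjective (by rwa [Ideal.mk_ker])
    have hqc : q.comap (Ideal.Quotient.mk _) = m₀ := by
      rw [Ideal.comap_map_of_surjective' _ Ideal.Quotient.mk_surjective, Ideal.mk_ker, sup_eq_left.2 hle]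
    haveI hqmax : q.IsMaximal := (Ideal.map_eq_top_or_isMaximal_of_surjective _
      Ideal.Quotient.mk_surjective ‹m₀.IsMaximal›).resolve_left (Ideal.IsPrime.ne_top inferInstance)
    have hlies : q.LiesOver (maximalIdeal R) := ⟨((maximalIdeal.isMaximal R).eq_of_le
      (Ideal.comap_ne_top _ (Ideal.IsPrime.ne_top inferInstance)) fun r hr => by
        show Ideal.Quotient.mk _ (algebraMap R A₀ r) ∈ q
        refine Ideal.mem_map_of_mem _ ?_
        show φ (algebraMap R A₀ r) ∈ m
        rw [φ.commutes, hA r hr]; exact m.zero_mem)⟩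
    have hmin : ∀ P' : Ideal A₀, P'.IsPrime → P' ≤ m₀ → Ideal.ofList rs₀ ≤ P' → algebraMap R A₀ π ∈ P' → P' = m₀ := by
      intro P' hP' hPm hrP hπP
      haveI := hP'
      have hd : Disjoint (m₀.primeCompl : Set A₀) P' := Set.disjoint_left.2 fun a ha ha' => ha (hPm ha')
      haveI := IsLocalization.isPrime_of_isPrime_disjoint m₀.primeCompl A₀m P' hP' hd
      let p := P'.map (algebraMap A₀ A₀m)
      have hk : RingHom.ker (θ : A₀m →+* Am ⧸ J) ≤ p := by
        intro z hz
        have hz' : algebraMap A₀m Am z ∈ J := Ideal.Quotient.eq_zero_iff_mem.1 hz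
        have hz'' : z ∈ I ⊔ Ideal.span {π'} := by
          rw [← hψker, ← Ideal.comap_map_of_surjective' _ hψsurj, Ideal.mem_comap, Ideal.map_ofList]
          exact hz'
        refine (sup_le ?_ ?_ : I ⊔ Ideal.span {π'} ≤ p) hz''
        · rw [show I = (Ideal.ofList rs₀).map (algebraMap A₀ A₀m) from (Ideal.map_ofList _ _).symm]
          exact Ideal.map_mono hrP
        · rw [Ideal.span_le, Set.singleton_subset_iff]
          show algebraMap R A₀m π ∈ p
          rw [IsScalarTower.algebraMap_apply R A₀ A₀m]
          exact Ideal.mem_map_of_mem _ hπP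
      haveI := Ideal.map_isPrime_of_surjective (f := (θ : A₀m →+* Am ⧸ J)) hθsurj hk
      have hfl : Module.length R (Am ⧸ J) ≠ ⊤ := by
        show ℓ' ≠ ⊤
        rw [hℓ']
        exact hfin
      haveI : IsArtinian R (Am ⧸ J) := (isFiniteLength_iff_isNoetherian_isArtinian.1 (Module.length_ne_top_iff.1 hfl)).2
      haveI : IsArtinianRing (Am ⧸ J) := isArtinian_of_tower R ‹_›
      have h1 : ((p.map (θ : A₀m →+* Am ⧸ J)).comap (θ : A₀m →+* Am ⧸ J)).IsMaximal :=
        Ideal.comap_isMaximal_of_surjective _ hθsurj (H := IsArtinianRing.isMaximal_of_isPrime _)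
      rw [Ideal.comap_map_of_surjective' (θ : A₀m →+* Am ⧸ J) hθsurj, sup_eq_left.2 hk] at h1
      rw [← IsLocalization.under_map_of_isPrime_disjoint m₀.primeCompl A₀m (I := P') hP' hd]
      show p.comap (algebraMap A₀ A₀m) = m₀
      rw [IsLocalRing.eq_maximalIdeal h1]
      exact IsLocalization.AtPrime.under_maximalIdeal A₀m m₀
    haveI : Algebra.QuasiFiniteAt R q := by
      let L := (maximalIdeal R).map (algebraMap R S)
      have hLq : L ≤ q := Ideal.map_le_iff_le_comap.2 hlies.over.le
      have hprime : (q.map (Ideal.Quotient.mk L)).IsPrime :=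
        Ideal.map_isPrime_of_surjective Ideal.Quotient.mk_surjective (by rwa [Ideal.mk_ker])
      let y : PrimeSpectrum (S ⧸ L) := ⟨q.map (Ideal.Quotient.mk L), hprime⟩
      have hyq : (PrimeSpectrum.comap (Ideal.Quotient.mk L) y).asIdeal = q := by
        show (q.map (Ideal.Quotient.mk L)).comap (Ideal.Quotient.mk L) = q
        rw [Ideal.comap_map_of_surjective' _ Ideal.Quotient.mk_surjective, Ideal.mk_ker, sup_eq_left.2 hLq]
      haveI : IsNoetherianRing S := Algebra.FiniteType.isNoetherianRing R S
      haveI : Algebra.FiniteType R (S ⧸ L) :=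
        Algebra.FiniteType.of_surjective (Ideal.Quotient.mkₐ R L) Ideal.Quotient.mk_surjective
      let φL : ResidueField R →+* S ⧸ L := Ideal.Quotient.lift (maximalIdeal R) (algebraMap R (S ⧸ L))
        fun r hr => Ideal.Quotient.eq_zero_iff_mem.2 (Ideal.mem_map_of_mem _ hr)
      letI : Algebra (ResidueField R) (S ⧸ L) := φL.toAlgebra
      haveI : IsScalarTower R (ResidueField R) (S ⧸ L) := IsScalarTower.of_algebraMap_eq fun r => rfl
      haveI : Algebra.FiniteType (ResidueField R) (S ⧸ L) :=
        Algebra.FiniteType.of_restrictScalars_finiteType R _ _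
      haveI : IsJacobsonRing (S ⧸ L) := isJacobsonRing_of_finiteType (A := ResidueField R)
      have hopen : IsOpen {y} := by
        refine ((PrimeSpectrum.isOpen_singleton_tfae_of_isNoetherian_of_isJacobsonRing y).out 2 0 rfl rfl).1 ⟨?_, ?_⟩
        · rw [PrimeSpectrum.isClosed_singleton_iff_isMaximal]
          exact (Ideal.map_eq_top_or_isMaximal_of_surjective _ Ideal.Quotient.mk_surjective hqmax).resolve_left
            hprime.ne_top
        · intro a b hab ha
          rw [Set.mem_singleton_iff] at ha ⊢
          subst ha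
          have hle' : b.asIdeal ≤ q.map (Ideal.Quotient.mk L) := (PrimeSpectrum.le_iff_specializes b y).2 hab
          let P' : Ideal A₀ := (b.asIdeal.comap (Ideal.Quotient.mk L)).comap (Ideal.Quotient.mk _)
          have hP'le : P' ≤ m₀ := by
            rw [← hqc]
            refine Ideal.comap_mono ((Ideal.comap_mono hle').trans ?_)
            rw [Ideal.comap_map_of_surjective' _ Ideal.Quotient.mk_surjective, Ideal.mk_ker, sup_eq_left.2 hLq]
          have hrP : Ideal.ofList rs₀ ≤ P' := by
            intro a ha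
            show Ideal.Quotient.mk L (Ideal.Quotient.mk _ a) ∈ b.asIdeal
            rw [Ideal.Quotient.eq_zero_iff_mem.2 ha, map_zero]; exact b.asIdeal.zero_mem
          have hπP : algebraMap R A₀ π ∈ P' := by
            show Ideal.Quotient.mk L (algebraMap R S π) ∈ b.asIdeal
            rw [Ideal.Quotient.eq_zero_iff_mem.2 (Ideal.mem_map_of_mem _ (hπ ▸ Ideal.subset_span rfl))]
            exact b.asIdeal.zero_mem
          have hP' := hmin P' inferInstance hP'le hrP hπP
          apply PrimeSpectrum.ext
          refine (Ideal.comap_injective_of_surjective _ Ideal.Quotient.mk_surjective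
            (Ideal.comap_injective_of_surjective _ Ideal.Quotient.mk_surjective ?_))
          show P' = _
          rw [hP']
          show m₀ = ((q.map (Ideal.Quotient.mk L)).comap (Ideal.Quotient.mk L)).comap _
          rw [Ideal.comap_map_of_surjective' _ Ideal.Quotient.mk_surjective, Ideal.mk_ker, sup_eq_left.2 hLq, hqc]
      have := (Groth.Agent.H9Hens.quasiFiniteAt_iff_isOpen_singleton_closedFibre y).2 hopen
      convert this using 2 <;> exact hyq.symm
    haveI := Groth.Agent.H9Hens.finite_localization_of_quasiFiniteAt (R := R) q hlies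
    let ρ : S →ₐ[R] B := Ideal.Quotient.liftₐ _ ((Ideal.Quotient.mkₐ R I).comp (IsScalarTower.toAlgHom R A₀ A₀m))
      fun a ha => Ideal.Quotient.eq_zero_iff_mem.2 (by
        show algebraMap A₀ A₀m a ∈ I
        rw [show I = (Ideal.ofList rs₀).map (algebraMap A₀ A₀m) from (Ideal.map_ofList _ _).symm]
        exact Ideal.mem_map_of_mem _ ha)
    have hρu : ∀ t : q.primeCompl, IsUnit (ρ t) := by
      rintro ⟨t, ht⟩
      obtain ⟨t, rfl⟩ := Ideal.Quotient.mk_surjective t
      exact (IsLocalization.map_units A₀m (⟨t, fun h => ht (Ideal.mem_map_of_mem _ h)⟩ : m₀.primeCompl)).map (Ideal.Quotient.mk I)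
    let ρ' : Localization.AtPrime q →ₐ[R] B := IsLocalization.liftAlgHom (M := q.primeCompl) (f := ρ) hρu
    have hρsurj : Function.Surjective ρ' := by
      intro z
      obtain ⟨z, rfl⟩ := Ideal.Quotient.mk_surjective z
      obtain ⟨⟨a, t⟩, hat⟩ := IsLocalization.surj m₀.primeCompl z
      have ht : Ideal.Quotient.mk _ (t : A₀) ∈ q.primeCompl := fun h => t.2 (hqc.le h)
      refine ⟨IsLocalization.mk' _ (Ideal.Quotient.mk _ a) ⟨_, ht⟩, ?_⟩
      show IsLocalization.lift _ _ = _
      rw [IsLocalization.lift_mk'_spec]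
      exact (congrArg (Ideal.Quotient.mk I) hat).symm.trans ((map_mul _ _ _).trans (mul_comm _ _))
    exact Module.Finite.of_surjective ρ'.toLinearMap hρsurj
  haveI : Module.IsTorsionFree R B := by
    refine ⟨fun r hr => ?_⟩
    obtain ⟨k, u, rfl⟩ := IsDiscreteValuationRing.eq_unit_mul_pow_irreducible hr.ne_zero
      ((IsDiscreteValuationRing.irreducible_iff_uniformizer π).2 hπ)
    have h1 : IsSMulRegular B π := fun a b hab => hπB (by simpa [π', Algebra.smul_def] using hab)
    exact ((u.isUnit.isSMulRegular B).mul (h1.pow k))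
  haveI : Module.Free R B := Module.free_of_finite_type_torsion_free'
  let b := Module.finBasis R B
  let ev : B →ₗ[R] (Fin (Module.finrank R B) → ResidueField R) :=
    LinearMap.pi fun i => (Algebra.linearMap R (ResidueField R)).comp (b.coord i)
  have hev : Function.Surjective ev := by
    intro v
    choose v' hv' using fun i => residue_surjective (v i)
    refine ⟨b.equivFun.symm v', funext fun i => ?_⟩
    show residue R (b.coord i (b.equivFun.symm v')) = v i
    rw [Module.Basis.coord_apply, ← Module.Basis.equivFun_apply, LinearEquiv.apply_symm_apply, hv']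
  let θl := θB.toLinearMap
  have hθlsurj : Function.Surjective θl := Ideal.Quotient.lift_surjective_of_surjective _ hθI hθsurj
  have hevker : LinearMap.ker θl = LinearMap.ker ev := by
    refine le_antisymm (fun z hz => ?_) (fun z hz => ?_)
    · obtain ⟨w, rfl⟩ := hθBker z hz
      refine LinearMap.mem_ker.2 (funext fun i => ?_)
      simp only [ev, LinearMap.pi_apply, LinearMap.comp_apply, map_smul, Pi.zero_apply]
      refine (Algebra.smul_def π _).trans ?_
      rw [show algebraMap R (ResidueField R) π = 0 from (residue_eq_zero_iff π).2 (hπ ▸ Ideal.subset_span rfl),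
        zero_mul]
    · have hc : ∀ i, ∃ c, b.coord i z = π * c := fun i => by
        have h0 : residue R (b.coord i z) = 0 := congrFun (LinearMap.mem_ker.1 hz) i
        rw [residue_eq_zero_iff, hπ, Ideal.mem_span_singleton'] at h0
        obtain ⟨c, hc⟩ := h0
        exact ⟨c, by rw [← hc, mul_comm]⟩
      choose c hc using hc
      have hzw : z = π • ∑ i, c i • b i := by
        conv_lhs => rw [← b.sum_repr z]
        rw [Finset.smul_sum]
        refine Finset.sum_congr rfl fun i _ => ?_
        rw [smul_smul, ← hc i]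
        rfl
      refine LinearMap.mem_ker.2 ?_
      rw [hzw, map_smul]
      show π • θl _ = 0
      obtain ⟨w, hw⟩ := Ideal.Quotient.mk_surjective (θl (∑ i, c i • b i))
      rw [← hw]
      refine (Submodule.Quotient.mk_smul J π w).symm.trans ?_
      have h0 : π • w = 0 := by
        rw [Algebra.smul_def, IsScalarTower.algebraMap_apply R A Am, hA π (hπ ▸ Ideal.subset_span rfl), map_zero,
          zero_mul]
      rw [h0]
      rfl
  have hrank : Module.length R (Am ⧸ J) = (Module.finrank R B : ℕ∞) := by
    rw [← ((θl.quotKerEquivOfSurjective hθlsurj).symm.trans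
      ((Submodule.quotEquivOfEq _ _ hevker).trans (ev.quotKerEquivOfSurjective hev))).symm.length_eq,
      Module.length_pi_of_fintype]
    simp [Module.length_eq_of_surjective (residue_surjective (R := R)), Module.length_eq_one_iff]
  refine ⟨Module.finrank R B, by rw [← hℓ', ← hrank], B, inferInstance, inferInstance, inferInstance,
    inferInstance, rfl, ⟨(Ideal.Quotient.mkₐ R I).comp (IsScalarTower.toAlgHom R A₀ A₀m)⟩⟩

end Groth.Agent.H28Index
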