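import Mathlib
import Groth.Agent.H28Index.MultLift
import Groth.Prelude.Def_Models
import Groth.Prelude.Def_W4c5delpairindexchiIndex

/-!
# Finite algebras over the base field and the index
-/

set_option autoImplicit false
set_option backward.isDefEq.respectTransparency.types false
set_option linter.style.haveILetI false
universe u
open CategoryTheory CategoryTheory.Limits AlgebraicGeometry
open scoped TensorProduct

namespace Groth.Agent.H28Index

variable {K : Type u} [Field K] {X : Scheme.{u}} (f : X ⟶ Spec (CommRingCat.of K))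

theorem finrank_toAlgebra_eq {A L : Type*} [Field A] [Field L] (φ : A →+* L) :
    @Module.finrank A L _ _ φ.toAlgebra.toModule = Module.finrank φ.fieldRange L := by
  letI := φ.toAlgebra
  refine Algebra.finrank_eq_of_equiv_equiv φ.rangeRestrictFieldEquiv (RingEquiv.refl L) ?_
  ext a; rfl

theorem residueDegree_eq (x : X) (ψ : CommRingCat.of K ⟶ X.residueField x)
    (hψ : Spec.map ψ = X.fromSpecResidueField x ≫ f) :
    f.residueDegree x = @Module.finrank K (X.residueField x) _ _ ψ.hom.toAlgebra.toModule := by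
  show @Module.finrank ((Spec (CommRingCat.of K)).residueField (f x)) (X.residueField x) _ _
    (f.residueFieldMap x).hom.toAlgebra.toModule = _
  rw [finrank_toAlgebra_eq, finrank_toAlgebra_eq]
  haveI : (f x).asIdeal.IsMaximal := by
    rcases Ideal.eq_bot_or_top (f x).asIdeal with h | h
    · rw [h]; exact Ideal.bot_isMaximal
    · exact absurd h (f x).isPrime.ne_top
  let ι' : CommRingCat.of K ⟶ (Spec (CommRingCat.of K)).residueField (f x) :=
    CommRingCat.ofHom (algebraMap K (f x).asIdeal.ResidueField) ≫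
      (Scheme.Spec.residueFieldIso (CommRingCat.of K) (f x)).inv
  have hι' : Spec.map ι' = (Spec (CommRingCat.of K)).fromSpecResidueField (f x) :=
    (Spec.map_comp _ _).trans (Scheme.Spec.map_residueFieldIso_inv_eq_fromSpecResidueField (CommRingCat.of K) (f x))
  have hcomp : ψ = ι' ≫ f.residueFieldMap x := by
    apply Spec.map_injective
    rw [hψ, Spec.map_comp, hι', Scheme.Hom.SpecMap_residueFieldMap_fromSpecResidueField]
  have hsurj : Function.Surjective ι'.hom :=
    ((Scheme.Spec.residueFieldIso (CommRingCat.of K) (f x)).symm.commRingCatIsoToRingEquiv.surjective).comp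
      (Ideal.algebraMap_residueField_surjective _)
  have hr : (f.residueFieldMap x).hom.fieldRange = ψ.hom.fieldRange := by
    ext a
    simp only [RingHom.mem_fieldRange, hcomp, CommRingCat.hom_comp, RingHom.comp_apply]
    exact hsurj.exists
  rw [hr]

/-- The degree of a point with values in a finite extension lies in the index subgroup. -/
theorem finrank_mem_of_field [LocallyOfFiniteType f] {E : Type u} [Field E] [Algebra K E]
    [FiniteDimensional K E] (v : Spec (CommRingCat.of E) ⟶ X)
    (hv : v ≫ f = Spec.map (CommRingCat.ofHom (algebraMap K E))) :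
    (Module.finrank K E : ℤ) ∈ Curv2.indexSubgroup f := by
  let x := v.base (IsLocalRing.closedPoint E)
  let φ : X.residueField x ⟶ CommRingCat.of E := Scheme.descResidueField (Scheme.stalkClosedPointTo v)
  have hφ : Spec.map φ ≫ X.fromSpecResidueField x = v :=
    Scheme.descResidueField_stalkClosedPointTo_fromSpecResidueField _ _ _
  let ψ : CommRingCat.of K ⟶ X.residueField x := Spec.preimage (X.fromSpecResidueField x ≫ f)
  have hψ : Spec.map ψ = X.fromSpecResidueField x ≫ f := Spec.map_preimage _
  have hψφ : ψ ≫ φ = CommRingCat.ofHom (algebraMap K E) := Spec.map_injective (by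
    rw [Spec.map_comp, hψ, ← Category.assoc, hφ, hv])
  letI : Algebra K (X.residueField x) := ψ.hom.toAlgebra
  letI : Algebra (X.residueField x) E := φ.hom.toAlgebra
  haveI : IsScalarTower K (X.residueField x) E :=
    IsScalarTower.of_algebraMap_eq' (congrArg CommRingCat.Hom.hom hψφ).symm
  haveI : Module.Finite K (X.residueField x) :=
    FiniteDimensional.left K (X.residueField x) E
  have hcl : IsClosed ({x} : Set X) := by
    haveI : JacobsonSpace X := LocallyOfFiniteType.jacobsonSpace f
    rw [isClosed_singleton_iff_locallyOfFiniteType]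
    haveI : LocallyOfFiniteType (X.fromSpecResidueField x ≫ f) := by
      rw [← hψ, HasRingHomProperty.Spec_iff (P := @LocallyOfFiniteType)]
      exact RingHom.finiteType_algebraMap.2 (inferInstance : Algebra.FiniteType K (X.residueField x))
    exact locallyOfFiniteType_of_comp _ f
  have hmem : (f.residueDegree x : ℤ) ∈ Curv2.indexSubgroup f := AddSubgroup.subset_closure ⟨x, hcl, rfl⟩
  rw [residueDegree_eq f x ψ hψ] at hmem
  rw [← Module.finrank_mul_finrank K (X.residueField x) E, Nat.cast_mul, mul_comm]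
  exact zsmul_mem hmem _ |> fun h => by simpa [smul_eq_mul] using h

/-- The dimension of a finite algebra with a point lies in the index subgroup. -/
theorem finrank_mem_of_finite [LocallyOfFiniteType f] {L : Type u} [CommRing L] [Algebra K L]
    [Module.Finite K L] (v : Spec (CommRingCat.of L) ⟶ X)
    (hv : v ≫ f = Spec.map (CommRingCat.ofHom (algebraMap K L))) :
    (Module.finrank K L : ℤ) ∈ Curv2.indexSubgroup f := by
  haveI : IsNoetherianRing L := Algebra.FiniteType.isNoetherianRing K L
  refine (?_ : ∀ (M : Type u) [AddCommGroup M] [Module L M] [Module.Finite L M] [Module K M] [IsScalarTower K L M],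
    (Module.finrank K M : ℤ) ∈ Curv2.indexSubgroup f) L
  intro M₀ _ _ hM₀ hK htow
  refine IsNoetherianRing.induction_on_isQuotientEquivQuotientPrime L (M := M₀) hM₀
    (motive := fun M _ _ _ => ∀ (_ : Module K M) (_ : IsScalarTower K L M),
      (Module.finrank K M : ℤ) ∈ Curv2.indexSubgroup f) ?_ ?_ ?_ hK htow
  · intro M _ _ _ _ _ _
    rw [Module.finrank_zero_of_subsingleton]
    exact zero_mem _
  · intro M _ _ _ p e _ _
    rw [(e.restrictScalars K).finrank_eq]
    haveI : IsArtinianRing L := IsArtinianRing.of_finite K L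
    letI := Ideal.Quotient.field p.1
    refine finrank_mem_of_field f (Spec.map (CommRingCat.ofHom (Ideal.Quotient.mk p.1)) ≫ v) ?_
    rw [Category.assoc, hv, ← Spec.map_comp]
    rfl
  · intro N₁ _ _ _ N₂ _ _ _ N₃ _ _ _ g h hg hh hgh H₁ H₃ _ _
    letI : Module K N₁ := Module.compHom N₁ (algebraMap K L)
    haveI : IsScalarTower K L N₁ := IsScalarTower.of_algebraMap_smul fun _ _ => rfl
    letI : Module K N₃ := Module.compHom N₃ (algebraMap K L)
    haveI : IsScalarTower K L N₃ := IsScalarTower.of_algebraMap_smul fun _ _ => rfl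
    haveI : Module.Finite K N₂ := Module.Finite.trans L N₂
    have h1 := LinearMap.finrank_range_add_finrank_ker (h.restrictScalars K)
    have hr : LinearMap.range (h.restrictScalars K) = ⊤ := LinearMap.range_eq_top.2 hh
    have hk : LinearMap.ker (h.restrictScalars K) = LinearMap.range (g.restrictScalars K) :=
      SetLike.ext fun z => hgh z
    rw [hr, hk, finrank_top, LinearMap.finrank_range_of_inj (f := g.restrictScalars K) hg] at h1
    rw [← h1, Nat.cast_add]
    exact add_mem (H₃ inferInstance inferInstance) (H₁ inferInstance inferInstance)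

/-- Transfer of the length of a ring along an isomorphism. -/
theorem length_self_congr {A B : Type u} [CommRing A] [CommRing B] (e : A ≃+* B) :
    Module.length A A = Module.length B B := by
  letI : Algebra A B := e.toRingHom.toAlgebra
  rw [← Module.length_eq_of_surjective (S := A) (R := B) (M := B) e.surjective]
  exact (LinearEquiv.ofBijective (Algebra.linearMap A B) e.bijective).length_eq

theorem length_stalk_mem (R : Type u) [CommRing R] [IsDomain R] [IsDiscreteValuationRing R]
    [HenselianLocalRing R] [IsAlgClosed (IsLocalRing.ResidueField R)]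
    (X : Scheme.{u}) (f : X ⟶ Spec (CommRingCat.of (FractionRing R))) (𝒳 : Scheme.{u})
    (p : 𝒳 ⟶ Spec (CommRingCat.of R)) (h𝒳 : Models.IsModel R 𝒳 p X f)
    (η : ↥(Models.specialFibre R 𝒳 p)) (hη : ∀ y : ↥(Models.specialFibre R 𝒳 p), y ⤳ η → y = η) :
    ∃ ℓ : ℕ, Module.length ((Models.specialFibre R 𝒳 p).presheaf.stalk η)
        ((Models.specialFibre R 𝒳 p).presheaf.stalk η) = ℓ ∧ (ℓ : ℤ) ∈ Curv2.indexSubgroup f := by
  obtain ⟨hflat, hlft, -, g, hg⟩ := h𝒳
  let K := FractionRing R
  let jk := Spec.map (CommRingCat.ofHom (algebraMap R (IsLocalRing.ResidueField R)))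
  obtain ⟨U, hU, hηU, -⟩ := exists_isAffineOpen_mem_and_subset
    (x := (pullback.fst p jk).base η) (U := (⊤ : 𝒳.Opens)) trivial
  let c := hU.fromSpec
  obtain ⟨ψ, hψ⟩ := Spec.map_surjective (c ≫ p)
  letI : Algebra R Γ(𝒳, U) := ψ.hom.toAlgebra
  haveI : Flat (c ≫ p) := inferInstance
  haveI : Flat (Spec.map ψ) := hψ ▸ ‹Flat (c ≫ p)›
  haveI : Module.Flat R Γ(𝒳, U) := RingHom.flat_algebraMap_iff.1
    ((HasRingHomProperty.Spec_iff (P := @Flat)).1 ‹Flat (Spec.map ψ)›)
  haveI : LocallyOfFiniteType (c ≫ p) := inferInstance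
  haveI : LocallyOfFiniteType (Spec.map ψ) := hψ ▸ ‹LocallyOfFiniteType (c ≫ p)›
  haveI : Algebra.FiniteType R Γ(𝒳, U) := RingHom.finiteType_algebraMap.1
    ((HasRingHomProperty.Spec_iff (P := @LocallyOfFiniteType)).1 ‹LocallyOfFiniteType (Spec.map ψ)›)
  let A₀ : Type u := Γ(𝒳, U)
  let k := IsLocalRing.ResidueField R
  let A := A₀ ⊗[R] k
  let φ : A₀ →ₐ[R] A := Algebra.TensorProduct.includeLeft
  let m := pullback.map (Spec.map ψ) jk p jk c (𝟙 _) (𝟙 _) (by rw [Category.comp_id, hψ])
    (by rw [Category.comp_id, Category.id_comp])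
  let i : Spec (CommRingCat.of A) ⟶ Models.specialFibre R 𝒳 p := (pullbackSpecIso R A₀ k).inv ≫ m
  haveI : IsOpenImmersion i := by
    show IsOpenImmersion ((pullbackSpecIso R A₀ k).inv ≫ m)
    infer_instance
  have hηi : η ∈ Set.range i.base := by
    have h1 : η ∈ Set.range m.base := by
      erw [Scheme.Pullback.range_map]
      exact ⟨by rw [Set.mem_preimage, hU.range_fromSpec]; exact hηU, ⟨_, rfl⟩⟩
    obtain ⟨w, hw⟩ := h1
    refine ⟨(pullbackSpecIso R A₀ k).hom.base w, ?_⟩
    rw [← Scheme.Hom.comp_apply, show (pullbackSpecIso R A₀ k).hom ≫ i = m from Iso.hom_inv_id_assoc _ _]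
    exact hw
  obtain ⟨a, rfl⟩ := hηi
  have hP : a.asIdeal ∈ minimalPrimes A := by
    refine ⟨⟨a.isPrime, bot_le⟩, fun q hq hle => ?_⟩
    let q' : Spec (CommRingCat.of A) := (⟨q, hq.1⟩ : PrimeSpectrum A)
    have hs : q' ⤳ a := (PrimeSpectrum.le_iff_specializes _ a).1 hle
    have := i.isOpenEmbedding.injective (hη _ (hs.map i.continuous))
    exact (congrArg PrimeSpectrum.asIdeal this).ge
  obtain ⟨π, hπirr⟩ := IsDiscreteValuationRing.exists_irreducible R
  have hπ := hπirr.maximalIdeal_eq
  have hsurj : Function.Surjective φ := by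
    intro t
    induction t using TensorProduct.induction_on with
    | zero => exact ⟨0, map_zero φ⟩
    | tmul b z =>
      obtain ⟨r, rfl⟩ := IsLocalRing.residue_surjective z
      refine ⟨r • b, ?_⟩
      show (r • b) ⊗ₜ[R] (1 : k) = b ⊗ₜ[R] IsLocalRing.residue R r
      rw [TensorProduct.smul_tmul]
      congr 1
      show r • (1 : k) = IsLocalRing.residue R r
      rw [Algebra.smul_def, mul_one]
      rfl
    | add t₁ t₂ h₁ h₂ =>
      obtain ⟨b₁, rfl⟩ := h₁
      obtain ⟨b₂, rfl⟩ := h₂
      exact ⟨b₁ + b₂, map_add _ _ _⟩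
  have hker : RingHom.ker φ = Ideal.span {algebraMap R A₀ π} := by
    refine le_antisymm (fun z hz => ?_) ?_
    · have hz' : z ⊗ₜ[R] (1 : k) = 0 := hz
      have h2 : z ∈ (Ideal.span {π} : Ideal R) • (⊤ : Submodule R A₀) := by
        rw [← hπ, ← Submodule.Quotient.mk_eq_zero]
        exact (TensorProduct.tensorQuotEquivQuotSMul A₀ (IsLocalRing.maximalIdeal R)).symm.injective (by
          rw [TensorProduct.tensorQuotEquivQuotSMul_symm_mk, map_zero]; exact hz')
      rw [Submodule.ideal_span_singleton_smul] at h2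
      obtain ⟨w, -, rfl⟩ := Submodule.mem_smul_pointwise_iff_exists _ _ _ |>.1 h2
      rw [Algebra.smul_def]
      exact Ideal.mul_mem_right _ _ (Ideal.subset_span rfl)
    · rw [Ideal.span_le, Set.singleton_subset_iff]
      show (algebraMap R A₀ π) ⊗ₜ[R] (1 : k) = 0
      rw [Algebra.algebraMap_eq_smul_one, TensorProduct.smul_tmul, Algebra.smul_def, mul_one,
        show algebraMap R k π = 0 from (IsLocalRing.residue_eq_zero_iff π).2 (hπ ▸ Ideal.subset_span rfl),
        TensorProduct.tmul_zero]
  obtain ⟨ℓ, hℓ, B, _, _, _, _, hrank, ⟨χ⟩⟩ :=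
    exists_finite_algebra R φ hsurj π hπ hker a.asIdeal hP
  refine ⟨ℓ, ?_, ?_⟩
  · rw [← hℓ]
    exact length_self_congr (((asIso (i.stalkMap a)).commRingCatIsoToRingEquiv).trans
      (IsLocalization.algEquiv a.asIdeal.primeCompl ((Spec.structureSheaf A).presheaf.stalk a)
        (Localization.AtPrime a.asIdeal)).toRingEquiv)
  · haveI : LocallyOfFiniteType f := MorphismProperty.of_isPullback hg hlft
    let vB : Spec (CommRingCat.of B) ⟶ 𝒳 := Spec.map (CommRingCat.ofHom χ.toRingHom) ≫ c
    let L := K ⊗[R] B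
    have hw : (Spec.map (CommRingCat.ofHom (Algebra.TensorProduct.includeRight (R := R) (A := K) (B := B)).toRingHom) ≫ vB) ≫ p =
        Spec.map (CommRingCat.ofHom (algebraMap K L)) ≫ Spec.map (CommRingCat.ofHom (algebraMap R K)) := by
      show (_ ≫ _ ≫ c) ≫ p = _
      rw [Category.assoc, Category.assoc, ← hψ, ← Spec.map_comp, ← Spec.map_comp, ← Spec.map_comp]
      congr 1
      ext r
      show (1 : K) ⊗ₜ[R] χ (algebraMap R A₀ r) = algebraMap R K r ⊗ₜ[R] (1 : B)
      rw [χ.commutes, Algebra.algebraMap_eq_smul_one (A := K), TensorProduct.smul_tmul,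
        ← Algebra.algebraMap_eq_smul_one]
    have := finrank_mem_of_finite f (hg.lift _ _ hw) (hg.lift_snd _ _ hw)
    rwa [Module.finrank_baseChange, hrank] at this

end Groth.Agent.H28Index
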